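import Mathlib
import Groth.Agent.SteinConn.UnibranchModif
import Groth.Agent.NormalTensor.NormRed
import Groth.Prelude.Def_EGA43

/-!
# Openness of quasi-finite maps at unibranch points
-/

set_option autoImplicit false
set_option linter.style.haveILetI false
set_option backward.isDefEq.respectTransparency false

universe u

open Polynomial PrimeSpectrum Topology

namespace Groth.Agent.UnibOpenLib

/-- An integral extension of domains of an integrally closed domain is open. -/
theorem isOpenMap_comap {N C : Type u} [CommRing N] [IsDomain N] [IsIntegrallyClosed N] [CommRing C] [IsDomain C]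
    [Algebra N C] [FaithfulSMul N C] [Algebra.IsIntegral N C] :
    IsOpenMap (PrimeSpectrum.comap (algebraMap N C)) := by
  rw [isTopologicalBasis_basic_opens.isOpenMap_iff]
  rintro _ ⟨g, rfl⟩
  let m := minpoly N g
  have hg : IsIntegral N g := Algebra.IsIntegral.isIntegral g
  have himage : PrimeSpectrum.comap (algebraMap N C) '' (basicOpen g : Set (PrimeSpectrum C)) =
      ⋃ i ∈ {i | i ≠ m.natDegree}, (basicOpen (m.coeff i) : Set (PrimeSpectrum N)) := by
    refine Set.Subset.antisymm ?_ ?_
    · rintro _ ⟨q, hq, rfl⟩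
      by_contra! H
      simp only [Set.mem_iUnion₂, not_exists] at H
      have hp : ∀ i, i ≠ m.natDegree → m.coeff i ∈ q.asIdeal.comap (algebraMap N C) := fun i hi => by
        by_contra hc
        exact H i hi hc
      refine hq (q.isPrime.mem_of_pow_mem m.natDegree ?_)
      have h0 : Polynomial.aeval g m = 0 := minpoly.aeval N g
      rw [Polynomial.aeval_eq_sum_range, Finset.sum_range_succ, show m.coeff m.natDegree = 1 from minpoly.monic hg,
        one_smul] at h0
      rw [eq_neg_of_add_eq_zero_right h0]
      refine neg_mem (Ideal.sum_mem _ fun i hi => ?_)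
      rw [Algebra.smul_def]
      exact Ideal.mul_mem_right _ _ (hp i (Finset.mem_range.mp hi).ne)
    · intro p hp
      obtain ⟨i, hi, hip⟩ := Set.mem_iUnion₂.mp hp
      by_contra H
      have hall : ∀ q : PrimeSpectrum C, PrimeSpectrum.comap (algebraMap N C) q = p → g ∈ q.asIdeal := fun q hq => by
        by_contra hgq
        exact H ⟨q, hgq, hq⟩
      have hrad : g ∈ (p.asIdeal.map (algebraMap N C)).radical := by
        rw [Ideal.radical_eq_sInf, Ideal.mem_sInf]
        rintro P ⟨hP, hPp⟩
        haveI := hPp
        haveI : P.LiesOver (P.under N) := ⟨rfl⟩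
        obtain ⟨Q, hQP, hQp, hQ⟩ := Ideal.exists_ideal_le_liesOver_of_le (p := p.asIdeal) (q := P.under N) P
          (Ideal.map_le_iff_le_comap.mp hP)
        exact hQP (hall ⟨Q, hQp⟩ (PrimeSpectrum.ext hQ.over.symm))
      obtain ⟨k, hk⟩ := hrad
      obtain ⟨f, hfm, hfa, hf⟩ := exists_monic_aeval_eq_zero_forall_mem_of_mem_map
        (show g ^ (k + 1) ∈ p.asIdeal.map (algebraMap N C) by rw [pow_succ]; exact Ideal.mul_mem_right _ _ hk)
      let F := Polynomial.expand N (k + 1) f
      have hF : F.Monic := hfm.expand (Nat.succ_pos k)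
      have hFa : Polynomial.aeval g F = 0 := by rw [Polynomial.expand_aeval]; exact hfa
      have hcoeff := Polynomial.coeff_mem_radical_span_coeff_of_dvd F m hF (minpoly.monic hg)
        (minpoly.isIntegrallyClosed_dvd hg hFa) i hi
      refine hip ((Ideal.radical_le_radical_iff.mpr ?_).trans p.isPrime.radical.le hcoeff)
      rw [Ideal.span_le]
      rintro _ ⟨j, hj, rfl⟩
      rw [p.isPrime.radical]
      show F.coeff j ∈ p.asIdeal
      rw [Polynomial.coeff_expand (Nat.succ_pos k)]
      split_ifs with hdvd
      · refine hf _ (ne_of_lt ?_)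
        rw [Polynomial.natDegree_expand] at hj
        exact Nat.div_lt_of_lt_mul (by rwa [mul_comm] at hj)
      · exact zero_mem _
  rw [himage]
  exact isOpen_biUnion fun i _ => isOpen_basicOpen

/-- A localised integral subalgebra of the fraction field is local at a unibranch point. -/
theorem isLocalRing_localization {A R K L : Type u} [CommRing A] [IsDomain A] [CommRing R] [IsDomain R] [IsLocalRing R]
    [Field K] [Algebra A K] [IsFractionRing A K] [Algebra A R] (p : Ideal A) [p.IsPrime]
    [IsLocalization.AtPrime R p] [Algebra R K] [IsScalarTower A R K] [IsFractionRing R K]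
    (hR : CAlg2.IsUnibranch R) [CommRing L] [Algebra (integralClosure A K) L]
    [IsLocalization (Algebra.algebraMapSubmonoid (integralClosure A K) p.primeCompl) L]
    [Algebra A L] [IsScalarTower A (integralClosure A K) L] [Algebra R L] [IsScalarTower A R L] :
    IsLocalRing L ∧ Algebra.IsIntegral R L := by
  let N := integralClosure A K
  let M := Algebra.algebraMapSubmonoid N p.primeCompl
  haveI hint : Algebra.IsIntegral R L := ⟨fun x => by
    obtain ⟨n, ⟨_, a, ha, rfl⟩, rfl⟩ := IsLocalization.exists_mk'_eq M x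
    have h1 : IsIntegral R (algebraMap N L n) :=
      ((Algebra.IsIntegral.isIntegral (R := A) n).map (IsScalarTower.toAlgHom A N L)).tower_top
    have h2 : IsLocalization.mk' L n (⟨algebraMap A N a, a, ha, rfl⟩ : M) =
        algebraMap N L n * algebraMap R L (IsLocalization.mk' R 1 (⟨a, ha⟩ : p.primeCompl)) := by
      rw [IsLocalization.mk'_eq_iff_eq_mul, mul_assoc, ← IsScalarTower.algebraMap_apply A N L,
        IsScalarTower.algebraMap_apply A R L, ← map_mul, IsLocalization.mk'_spec, map_one, map_one, mul_one]
    rw [h2]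
    exact h1.mul isIntegral_algebraMap⟩
  have hne : ∀ y : M, (y : N) ≠ 0 := by
    rintro ⟨_, a, ha, rfl⟩ h
    refine ha ?_
    rw [(FaithfulSMul.algebraMap_injective A N) (h.trans (map_zero (algebraMap A N)).symm)]
    exact p.zero_mem
  have hMK : ∀ y : M, IsUnit (algebraMap N K y) := fun y =>
    isUnit_iff_ne_zero.2 fun h => hne y (Subtype.ext h)
  let φ₀ : L →+* K := IsLocalization.lift hMK
  let φ : L →ₐ[R] K :=
    { φ₀ with
      commutes' := fun r => by
        show φ₀ (algebraMap R L r) = algebraMap R K r
        refine RingHom.congr_fun (IsLocalization.ringHom_ext (M := p.primeCompl)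
          (j := φ₀.comp (algebraMap R L)) (k := algebraMap R K) (RingHom.ext fun a => ?_)) r
        show φ₀ (algebraMap R L (algebraMap A R a)) = algebraMap R K (algebraMap A R a)
        rw [← IsScalarTower.algebraMap_apply A R L, IsScalarTower.algebraMap_apply A N L,
          ← IsScalarTower.algebraMap_apply A R K]
        exact (IsLocalization.lift_eq hMK _).trans (IsScalarTower.algebraMap_apply A N K a).symm }
  have hinjL : Function.Injective (algebraMap N L) :=
    IsLocalization.injective L (M := M) (le_nonZeroDivisors_of_noZeroDivisors fun h0 => hne ⟨0, h0⟩ rfl)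
  have hφ : Function.Injective φ := by
    refine (IsLocalization.lift_injective_iff hMK).2 fun x y => ⟨fun h => ?_, fun h => ?_⟩
    · rw [hinjL h]
    · rw [Subtype.ext (show x.1 = y.1 from h)]
  haveI : Nontrivial L := φ.toRingHom.domain_nontrivial
  exact ⟨SteinConn.isLocalRing_of_unibranch hR φ hφ, hint⟩

/-- The local unibranch property gives one point of the normalisation over a prime. -/
theorem eq_of_isUnibranch {A : Type u} [CommRing A] [IsDomain A] (p : Ideal A) [p.IsPrime]
    (hp : CAlg2.IsUnibranch (Localization.AtPrime p)) (P₁ P₂ : Ideal (integralClosure A (FractionRing A)))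
    [P₁.IsPrime] [P₂.IsPrime] (h₁ : P₁.comap (algebraMap A _) = p) (h₂ : P₂.comap (algebraMap A _) = p) :
    P₁ = P₂ := by
  let K := FractionRing A
  let N := integralClosure A K
  let R := Localization.AtPrime p
  let M := Algebra.algebraMapSubmonoid N p.primeCompl
  let L := Localization M
  haveI : IsDomain R := IsLocalization.isDomain_localization p.primeCompl_le_nonZeroDivisors
  letI : Algebra R K := (IsLocalization.lift (M := p.primeCompl) (g := algebraMap A K) fun s =>
    isUnit_iff_ne_zero.2 fun h => s.2 (by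
      rw [(IsFractionRing.injective A K) (h.trans (map_zero (algebraMap A K)).symm)]; exact p.zero_mem)).toAlgebra
  haveI : IsScalarTower A R K := IsScalarTower.of_algebraMap_eq fun a => by
    rw [RingHom.algebraMap_toAlgebra, IsLocalization.lift_eq]
  haveI : IsFractionRing R K := IsFractionRing.isFractionRing_of_isDomain_of_isLocalization p.primeCompl R K
  obtain ⟨hloc, hint⟩ := isLocalRing_localization (A := A) (R := R) (K := K) (L := L) p hp
  haveI := hloc
  haveI := hint
  have key : ∀ (P : Ideal N) [P.IsPrime], P.comap (algebraMap A N) = p →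
      (IsLocalRing.maximalIdeal L).comap (algebraMap N L) = P := by
    intro P _ hP
    have hdisj : Disjoint (M : Set N) P := Set.disjoint_left.2 fun x hx hxP => by
      obtain ⟨a, ha, rfl⟩ := hx
      exact ha (hP.le hxP)
    haveI := IsLocalization.isPrime_of_isPrime_disjoint M L P ‹_› hdisj
    have h3 := IsLocalization.comap_map_of_isPrime_disjoint M L ‹P.IsPrime› hdisj
    have hmax : (P.map (algebraMap N L)).IsMaximal := by
      refine Ideal.isMaximal_of_isIntegral_of_isMaximal_comap (R := R) (P.map (algebraMap N L)) ?_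
      have h4 : (P.map (algebraMap N L)).comap (algebraMap R L) = IsLocalRing.maximalIdeal R := by
        rw [← IsLocalization.map_comap p.primeCompl R ((P.map (algebraMap N L)).comap (algebraMap R L)),
          Ideal.under_def, Ideal.comap_comap, ← IsScalarTower.algebraMap_eq A R L, IsScalarTower.algebraMap_eq A N L,
          ← Ideal.comap_comap, show (P.map (algebraMap N L)).comap (algebraMap N L) = P from h3, hP, Localization.AtPrime.map_eq_maximalIdeal]
      rw [h4]
      infer_instance
    rw [← IsLocalRing.eq_maximalIdeal hmax]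
    exact h3
  exact (key P₁ h₁).symm.trans (key P₂ h₂)

theorem isOpenAt_comap_integral {A C : Type u} [CommRing A] [IsDomain A] [CommRing C] [IsDomain C] [Algebra A C]
    (hinj : Function.Injective (algebraMap A C)) [Algebra.IsIntegral A C] (q : PrimeSpectrum C)
    (hp : CAlg2.IsUnibranch (Localization.AtPrime (q.asIdeal.comap (algebraMap A C)))) :
    EGA43.IsOpenAt (PrimeSpectrum.comap (algebraMap A C)) q := by
  let N := integralClosure A (FractionRing A)
  let D := integralClosure C (FractionRing C)
  let G : FractionRing A →+* FractionRing C := IsFractionRing.map hinj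
  let Gₐ : FractionRing A →ₐ[A] FractionRing C :=
    { G with
      commutes' := fun a => by
        show G (algebraMap A (FractionRing A) a) = algebraMap A (FractionRing C) a
        rw [IsScalarTower.algebraMap_apply A C (FractionRing C)]
        exact IsLocalization.map_eq _ a }
  have hmem : ∀ z : N, Gₐ z.1 ∈ D := fun z => (z.2.map Gₐ).tower_top
  let ψ : N →+* D := (G.comp N.val.toRingHom).codRestrict D.toSubring hmem
  letI : Algebra A D := ((algebraMap C D).comp (algebraMap A C)).toAlgebra
  haveI : IsScalarTower A C D := .of_algebraMap_eq fun _ => rfl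
  haveI : Algebra.IsIntegral A D := Algebra.IsIntegral.trans C
  letI : Algebra N D := ψ.toAlgebra
  haveI : IsScalarTower A N D := .of_algebraMap_eq fun a => Subtype.ext (Gₐ.commutes a).symm
  haveI : Algebra.IsIntegral N D := Algebra.IsIntegral.tower_top A
  haveI : FaithfulSMul N D := (faithfulSMul_iff_algebraMap_injective _ _).mpr
    fun _ _ h => Subtype.ext (G.injective (congrArg Subtype.val h))
  haveI : IsIntegrallyClosed N := integralClosure.isIntegrallyClosedOfFiniteExtension (FractionRing A)
  intro U hU
  obtain ⟨O, hOU, hO, hqO⟩ := mem_nhds_iff.mp hU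
  let O' : Set (PrimeSpectrum D) := PrimeSpectrum.comap (algebraMap C D) ⁻¹' O
  have hW : IsOpen (PrimeSpectrum.comap (algebraMap N D) '' O') :=
    isOpenMap_comap _ (hO.preimage (PrimeSpectrum.continuous_comap _))
  have hsurj : Function.Surjective (PrimeSpectrum.comap (algebraMap C D)) :=
    (algebraMap_isIntegral_iff.mpr inferInstance).comap_surjective fun a b h =>
      IsFractionRing.injective C (FractionRing C) (congrArg Subtype.val h)
  obtain ⟨q', rfl⟩ := hsurj q
  have hNA : (algebraMap A N).IsIntegral := algebraMap_isIntegral_iff.mpr inferInstance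
  have hclosed := (isClosedMap_comap_of_isIntegral _ hNA) _ hW.isClosed_compl
  have hsurjA : Function.Surjective (PrimeSpectrum.comap (algebraMap A N)) :=
    hNA.comap_surjective (FaithfulSMul.algebraMap_injective A N)
  have htower : ∀ d : PrimeSpectrum D, PrimeSpectrum.comap (algebraMap A N) (PrimeSpectrum.comap (algebraMap N D) d) =
      PrimeSpectrum.comap (algebraMap A C) (PrimeSpectrum.comap (algebraMap C D) d) := fun d => by
    rw [← PrimeSpectrum.comap_comp_apply, ← PrimeSpectrum.comap_comp_apply, ← IsScalarTower.algebraMap_eq,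
      ← IsScalarTower.algebraMap_eq]
  refine Filter.mem_of_superset (hclosed.isOpen_compl.mem_nhds ?_) ?_
  · rintro ⟨P, hP, hPq⟩
    refine hP ⟨q', hqO, ?_⟩
    refine PrimeSpectrum.ext (eq_of_isUnibranch _ hp _ _ ?_ (congrArg PrimeSpectrum.asIdeal hPq))
    exact congrArg PrimeSpectrum.asIdeal (htower q')
  · intro s hs
    obtain ⟨P, rfl⟩ := hsurjA s
    obtain ⟨d, hd, rfl⟩ : P ∈ PrimeSpectrum.comap (algebraMap N D) '' O' := by
      by_contra h
      exact hs ⟨P, h, rfl⟩
    exact ⟨_, hOU hd, (htower d).symm⟩

/-- Being unibranch only depends on the reduced ring. -/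
theorem isUnibranch_of_surjective {R R' : Type u} [CommRing R] [IsLocalRing R] [CommRing R'] [IsLocalRing R']
    [IsDomain R'] (π : R →+* R') (hπ : Function.Surjective π) (hk : RingHom.ker π = nilradical R)
    (h : CAlg2.IsUnibranch R) : CAlg2.IsUnibranch R' := by
  obtain ⟨e₁, -⟩ := NormalTensor.exists_normRed_equiv (B := R) (C := R')
    (C' := integralClosure R' (FractionRing R')) (Q := FractionRing R') π hπ hk
  obtain ⟨e₂, -⟩ := NormalTensor.exists_normRed_equiv (B := R') (C := R')
    (C' := integralClosure R' (FractionRing R')) (Q := FractionRing R') (RingHom.id R') Function.surjective_id (by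
      rw [nilradical_eq_zero]
      exact (RingHom.injective_iff_ker_eq_bot _).1 Function.injective_id)
  haveI := h.2
  refine ⟨?_, (e₁.trans e₂.symm).isLocalRing⟩
  exact ((Ideal.quotEquivOfEq (nilradical_eq_zero R')).trans (RingEquiv.quotientBot R')).toMulEquiv.isDomain _

/-- Quasi-finite maps from a domain are open at unibranch points. -/
theorem isOpenAt_comap_of_zmp {A B : Type u} [CommRing A] [CommRing B] [IsDomain B] [Algebra A B]
    (hker : RingHom.ker (algebraMap A B) = nilradical A) (q : PrimeSpectrum B)
    (hz : Algebra.ZariskisMainProperty A q.asIdeal)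
    (hp : CAlg2.IsUnibranch (Localization.AtPrime (q.asIdeal.comap (algebraMap A B)))) :
    EGA43.IsOpenAt (PrimeSpectrum.comap (algebraMap A B)) q := by
  classical
  let I := nilradical A
  haveI hIp : I.IsPrime := by
    have h := RingHom.ker_isPrime (algebraMap A B)
    rwa [hker] at h
  let p := q.asIdeal.comap (algebraMap A B)
  let A₀ := A ⧸ I
  let j : A₀ →+* B := Ideal.Quotient.lift I (algebraMap A B) fun a ha => hker.ge ha
  have hj : Function.Injective j := RingHom.lift_injective_of_ker_le_ideal I (fun a ha => hker.ge ha) hker.le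
  letI : Algebra A₀ B := j.toAlgebra
  haveI : IsScalarTower A A₀ B := .of_algebraMap_eq fun _ => rfl
  let p₀ : Ideal A₀ := q.asIdeal.comap (algebraMap A₀ B)
  have hp₀ : p₀.comap (Ideal.Quotient.mk I) = p := rfl
  -- the localisation of the reduction
  have hp₀u : CAlg2.IsUnibranch (Localization.AtPrime p₀) := by
    let π : Localization.AtPrime p →+* Localization.AtPrime p₀ :=
      Localization.localRingHom p p₀ (Ideal.Quotient.mk I) hp₀.symm
    haveI : IsDomain (Localization.AtPrime p₀) := IsLocalization.isDomain_localization p₀.primeCompl_le_nonZeroDivisors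
    refine isUnibranch_of_surjective π ?_ (le_antisymm ?_ ?_) hp
    · intro z
      obtain ⟨a, b, rfl⟩ := IsLocalization.exists_mk'_eq p₀.primeCompl z
      obtain ⟨a, rfl⟩ := Ideal.Quotient.mk_surjective a
      obtain ⟨b, hb⟩ := b
      obtain ⟨b, rfl⟩ := Ideal.Quotient.mk_surjective b
      exact ⟨IsLocalization.mk' _ a (⟨b, hb⟩ : p.primeCompl), Localization.localRingHom_mk' _ _ _ _ _ _⟩
    · intro z hz
      obtain ⟨a, b, rfl⟩ := IsLocalization.exists_mk'_eq p.primeCompl z
      rw [RingHom.mem_ker, Localization.localRingHom_mk', IsLocalization.mk'_eq_zero_iff] at hz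
      obtain ⟨t, ht⟩ := hz
      have ht0 : (t : A₀) ≠ 0 := fun h0 => t.2 (h0 ▸ p₀.zero_mem)
      have ha : a ∈ nilradical A := Ideal.Quotient.eq_zero_iff_mem.mp ((mul_eq_zero.mp ht).resolve_left ht0)
      rw [mem_nilradical, IsLocalization.mk'_eq_mul_mk'_one]
      exact (Commute.all _ _).isNilpotent_mul_right ((mem_nilradical.mp ha).map (algebraMap A (Localization.AtPrime p)))
    · intro z hz
      exact ((mem_nilradical.mp hz).map π).eq_zero
  -- integral closure and an open immersion
  obtain ⟨r, hrq, hr, hsat⟩ := Algebra.zariskisMainProperty_iff.mp hz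
  let C := integralClosure A₀ B
  have hC : ∀ x : B, IsIntegral A x → x ∈ C := fun x hx => hx.tower_top
  let r' : C := ⟨r, hC r hr⟩
  intro U hU
  obtain ⟨_, ⟨g, rfl⟩, hqg, hgU⟩ := isTopologicalBasis_basic_opens.mem_nhds_iff.mp hU
  obtain ⟨k, hk⟩ := hsat g
  let c : C := ⟨r ^ (k + 1) * g, by
    rw [pow_succ', mul_assoc]; exact mul_mem r'.2 (hC _ hk)⟩
  have hcq : PrimeSpectrum.comap (algebraMap C B) q ∈ (basicOpen c : Set (PrimeSpectrum C)) := fun h =>
    (q.isPrime.mem_or_mem (show r ^ (k + 1) * g ∈ q.asIdeal from h)).elim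
      (fun h1 => hrq (q.isPrime.mem_of_pow_mem _ h1)) hqg
  have hopen := isOpenAt_comap_integral (A := A₀) (C := C)
    (fun a b h => hj (congrArg Subtype.val h)) (PrimeSpectrum.comap (algebraMap C B) q) hp₀u
    _ ((basicOpen c).2.mem_nhds hcq)
  have hemb : IsInducing (PrimeSpectrum.comap (Ideal.Quotient.mk I)) :=
    (isClosedEmbedding_comap_of_surjective _ _ Ideal.Quotient.mk_surjective).isInducing
  have hrange : Set.range (PrimeSpectrum.comap (Ideal.Quotient.mk I)) = Set.univ := by
    rw [range_comap_of_surjective _ _ Ideal.Quotient.mk_surjective, Ideal.mk_ker, Set.eq_univ_iff_forall]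
    exact fun x => fun a ha => nilradical_le_prime x.asIdeal ha
  let h₀ := PrimeSpectrum.comap (Ideal.Quotient.mk I)
  obtain ⟨O, hOsub, hO, hmem⟩ := mem_nhds_iff.mp hopen
  obtain ⟨O₁, hO₁, rfl⟩ := hemb.isOpen_iff.mp hO
  refine Filter.mem_of_superset (hO₁.mem_nhds (hmem : _ ∈ h₀ ⁻¹' O₁)) fun s hs => ?_
  obtain ⟨s, rfl⟩ : s ∈ Set.range h₀ := hrange.ge trivial
  obtain ⟨P, hPc, rfl⟩ := hOsub hs
  have hrP : (r' : C) ∉ P.asIdeal := fun h => hPc (by
    have : c = r' * ⟨r ^ k * g, hC _ hk⟩ := Subtype.ext (by
      show r ^ (k + 1) * g = r * (r ^ k * g)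
      rw [pow_succ', mul_assoc])
    rw [this]
    exact Ideal.mul_mem_right _ _ h)
  have hle : (P.asIdeal.map (algebraMap C B)).comap (algebraMap C B) = P.asIdeal := by
    refine le_antisymm ?_ Ideal.le_comap_map
    have key : ∀ y ∈ P.asIdeal.map (algebraMap C B), ∃ (N : ℕ) (z : C), z ∈ P.asIdeal ∧ r ^ N * y = z.1 := by
      intro y hy
      rw [Ideal.map] at hy
      induction hy using Submodule.span_induction with
      | mem y hy =>
        obtain ⟨z, hz, rfl⟩ := hy
        exact ⟨0, z, hz, by rw [pow_zero, one_mul]; rfl⟩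
      | zero => exact ⟨0, 0, zero_mem _, by simp⟩
      | add y₁ y₂ _ _ h1 h2 =>
        obtain ⟨N₁, z₁, hz₁, e₁⟩ := h1
        obtain ⟨N₂, z₂, hz₂, e₂⟩ := h2
        refine ⟨N₁ + N₂, r' ^ N₂ * z₁ + r' ^ N₁ * z₂, add_mem (Ideal.mul_mem_left _ _ hz₁) (Ideal.mul_mem_left _ _ hz₂), ?_⟩
        simp only [Subalgebra.coe_add, Subalgebra.coe_mul, Subalgebra.coe_pow, ← e₁, ← e₂, r']
        ring
      | smul b y _ h1 =>
        obtain ⟨N, z, hz, e⟩ := h1
        obtain ⟨m, hm⟩ := hsat b
        refine ⟨m + N, ⟨r ^ m * b, hC _ hm⟩ * z, Ideal.mul_mem_left _ _ hz, ?_⟩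
        simp only [Subalgebra.coe_mul, ← e, smul_eq_mul]
        ring
    intro x hx
    obtain ⟨N, z, hz, e⟩ := key _ hx
    have : r' ^ N * x = z := Subtype.ext e
    rw [← this] at hz
    exact (P.isPrime.mem_or_mem hz).resolve_left fun h => hrP (P.isPrime.mem_of_pow_mem _ h)
  obtain ⟨Q, hQ, hQP⟩ := (Ideal.comap_map_eq_self_iff_of_isPrime P.asIdeal).mp hle
  refine ⟨⟨Q, hQ⟩, hgU fun hgQ => hPc ?_, ?_⟩
  · rw [← hQP]
    exact Ideal.mul_mem_left _ _ hgQ
  · refine PrimeSpectrum.ext ?_
    show Q.comap (algebraMap A B) = (P.asIdeal.comap (algebraMap A₀ C)).comap (Ideal.Quotient.mk I)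
    rw [← hQP, Ideal.comap_comap, Ideal.comap_comap]
    rfl

end Groth.Agent.UnibOpenLib
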